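import Mathlib
import Cfsg.Agent.Lib.Helper48.FrakL.Core2
import Cfsg.Agent.Lib.Helper33.FrakL.SL2Quad
import Cfsg.Agent.Lib.Helper77.FrakL.SL2Aux

set_option autoImplicit false

/-!
Case glue (G3) of S2863: the case `X / A ≅ SL₂(F)`.
-/

namespace Cfsg.Agent.Lib.Helper68.FrakL

open Cfsg.Agent.Lib.Helper48.FrakL Subgroup

universe u

section Mat

variable {F : Type} [Field F]

theorem xe_inj {t t' : F} (h : xe t = xe t') : t = t' := by
  have := congrArg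
    (fun g : Matrix.SpecialLinearGroup (Fin 2) F => (g : Matrix (Fin 2) (Fin 2) F) 0 1) h
  simpa [xe] using this

/-- The Weyl element `[[0, 1], [-1, 0]]`. -/
def w0 : Matrix.SpecialLinearGroup (Fin 2) F := xe 1 * ye (-1) * xe 1

theorem w0_conj (t : F) : (w0 : Matrix.SpecialLinearGroup (Fin 2) F) * xe t * w0⁻¹ = ye (-t) := by
  rw [mul_inv_eq_iff_eq_mul]
  apply Cfsg.Agent.Lib.Helper33.FrakL.sl2_ext <;>
    simp only [w0, Cfsg.Agent.Lib.Helper33.FrakL.mul_00, Cfsg.Agent.Lib.Helper33.FrakL.mul_01,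
      Cfsg.Agent.Lib.Helper33.FrakL.mul_10, Cfsg.Agent.Lib.Helper33.FrakL.mul_11,
      Cfsg.Agent.Lib.Helper33.FrakL.xe_00, Cfsg.Agent.Lib.Helper33.FrakL.xe_01,
      Cfsg.Agent.Lib.Helper33.FrakL.xe_10, Cfsg.Agent.Lib.Helper33.FrakL.xe_11,
      Cfsg.Agent.Lib.Helper33.FrakL.ye_00, Cfsg.Agent.Lib.Helper33.FrakL.ye_01,
      Cfsg.Agent.Lib.Helper33.FrakL.ye_10, Cfsg.Agent.Lib.Helper33.FrakL.ye_11] <;>
    ring

theorem ye_ne_xe (t : F) : ye (-1 : F) ≠ xe t := by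
  intro h
  have := congrArg
    (fun g : Matrix.SpecialLinearGroup (Fin 2) F => (g : Matrix (Fin 2) (Fin 2) F) 1 0) h
  simp [xe, ye] at this

/-- Package A for a group `V` that is commutative by hypothesis. -/
theorem quad_wrap {V : Type u} [Group V] (hcomm : ∀ a b : V, a * b = b * a)
    (ρ : Matrix.SpecialLinearGroup (Fin 2) F →* MulAut V)
    (h1 : ∀ v : V, (∀ t, ρ (xe t) v = v) → (∀ t, ρ (ye t) v = v) → v = 1)
    (h2 : ∀ v : V, ∃ v1 v2 : V, v = v1 * v2 ∧ (∀ t, ρ (xe t) v1 = v1) ∧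
      (∀ t, ρ (ye t) v2 = v2))
    (h3 : ∀ (t t' : F) (v : V), ρ (xe t') (ρ (xe t) v * v⁻¹) = ρ (xe t) v * v⁻¹)
    (h4 : ∀ (t t' : F) (v : V), ρ (ye t') (ρ (ye t) v * v⁻¹) = ρ (ye t) v * v⁻¹)
    (h5 : (2 : F) ≠ 0 → ∀ v : V, v * v = 1 → v = 1)
    (g : Matrix.SpecialLinearGroup (Fin 2) F)
    (hg : (g : Matrix (Fin 2) (Fin 2) F) 0 0 + (g : Matrix (Fin 2) (Fin 2) F) 1 1 ≠ 2)
    (v : V) (hv : ρ g v = v) : v = 1 := by
  let _ : CommGroup V := { (inferInstance : Group V) with mul_comm := hcomm }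
  exact Cfsg.Agent.Lib.Helper33.FrakL.sl2QuadFpf.{0, u} ρ h1 h2 h3 h4 h5 g hg v hv

end Mat

/-- The case `X / A ≅ SL₂(F)`, given a surjection `σ : X → SL₂(F)` with kernel `A` mapping `Y`
onto the upper unitriangular group. -/
theorem case_sl2_of_hom {X : Type u} [Group X] [Finite X] {Y A : Subgroup X} [hAn : A.Normal]
    {p : ℕ} [Fact p.Prime] (d : Data p Y A) {F : Type} [Field F] [Finite F] [CharP F p]
    (σ : X →* Matrix.SpecialLinearGroup (Fin 2) F) (hσs : Function.Surjective σ)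
    (hσk : ∀ x, σ x = 1 ↔ x ∈ A)
    (hT1 : ∀ y ∈ Y, ∃ t, σ y = xe t) (hT2 : ∀ t, ∃ y ∈ Y, σ y = xe t) : Concl p Y A := by
  classical
  -- the "Sylow" hypothesis
  have hs : HSyl Y A := by
    intro g hg1 _ y hy
    have hle : Yc Y g ≤ normalizer (Y : Set X) := by
      intro x hx
      obtain ⟨y0, hy0, rfl⟩ := mem_Yc.mp hx
      exact hg1 y0 hy0
    have hpYc : IsPGroup p ↥(Yc Y g) := d.isPGroup_Y.map _
    have hp2 : IsPGroup p ↥(Yc Y g ⊔ Y) :=
      IsPGroup.to_sup_of_normal_right' hpYc d.isPGroup_Y hle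
    have hpP2 : IsPGroup p ↥((Yc Y g ⊔ Y).map σ) := hp2.map σ
    obtain ⟨k2, hk2⟩ :=
      Cfsg.Agent.Lib.Helper77.FrakL.sl2PGroupConj.{0} ((Yc Y g ⊔ Y).map σ) hpP2
    have hc1 : Nat.card ↥((Yc Y g ⊔ Y).map σ) ≤ Nat.card F := by
      refine Nat.card_le_card_of_injective (fun s => Classical.choose (hk2 s.1 s.2)) ?_
      intro s s' hss
      have h1 := Classical.choose_spec (hk2 s.1 s.2)
      have h2 := Classical.choose_spec (hk2 s'.1 s'.2)
      simp only at hss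
      rw [hss] at h1
      have h3 : k2 * s.1 * k2⁻¹ = k2 * s'.1 * k2⁻¹ := h1.trans h2.symm
      exact Subtype.ext (mul_left_cancel (mul_right_cancel h3))
    have hc2 : Nat.card F ≤ Nat.card ↥(Y.map σ) := by
      have hmem : ∀ t : F, xe t ∈ Y.map σ := by
        intro t
        obtain ⟨y, hy, hyt⟩ := hT2 t
        exact ⟨y, hy, hyt⟩
      refine Nat.card_le_card_of_injective (fun t => (⟨xe t, hmem t⟩ : ↥(Y.map σ))) ?_
      intro t t' htt
      exact xe_inj (congrArg Subtype.val htt)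
    have hle2 : Y.map σ ≤ (Yc Y g ⊔ Y).map σ := Subgroup.map_mono le_sup_right
    have heq : Y.map σ = (Yc Y g ⊔ Y).map σ :=
      Subgroup.eq_of_le_of_card_ge hle2 (hc1.trans hc2)
    have hmem : σ (g * y * g⁻¹) ∈ Y.map σ := by
      rw [heq]
      exact Subgroup.mem_map_of_mem σ (le_sup_left (α := Subgroup X) (conj_mem_Yc g hy))
    obtain ⟨y', hy', hyy⟩ := hmem
    have hA : y'⁻¹ * (g * y * g⁻¹) ∈ A := by
      rw [← hσk, map_mul, map_inv, hyy, inv_mul_cancel]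
    have e : g * y * g⁻¹ = y' * (y'⁻¹ * (g * y * g⁻¹)) := by group
    rw [e]
    exact Subgroup.mul_mem_sup hy' hA
  -- the Weyl element
  obtain ⟨g0, hg0⟩ := hσs w0
  have hconj : ∀ y0 : X, ∀ t : F, σ y0 = xe t → σ (g0 * y0 * g0⁻¹) = ye (-t) := by
    intro y0 t ht
    rw [map_mul, map_mul, map_inv, hg0, ht, w0_conj]
  have hg0n : g0 ∉ normalizer (Y : Set X) := by
    intro hn
    obtain ⟨y, hy, hyt⟩ := hT2 1
    have h1 : g0 * y * g0⁻¹ ∈ Y := (mem_normalizer_iff.mp hn y).mp hy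
    obtain ⟨t, ht⟩ := hT1 _ h1
    rw [hconj y 1 hyt] at ht
    exact ye_ne_xe t ht
  have hgen : Y ⊔ Yc Y g0 = ⊤ := d.sup_eq_top hs hg0n
  have hT1' : ∀ y ∈ Yc Y g0, ∃ t, σ y = ye t := by
    intro y hy
    obtain ⟨y0, hy0, rfl⟩ := mem_Yc.mp hy
    obtain ⟨t, ht⟩ := hT1 y0 hy0
    exact ⟨-t, hconj y0 t ht⟩
  have hT2' : ∀ t, ∃ y ∈ Yc Y g0, σ y = ye t := by
    intro t
    obtain ⟨y0, hy0, ht⟩ := hT2 (-t)
    exact ⟨g0 * y0 * g0⁻¹, conj_mem_Yc g0 hy0, by rw [hconj y0 (-t) ht, neg_neg]⟩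
  -- the action of `SL₂(F)` on `V`
  have hker : σ.ker ≤ (rhoX Y A).ker := by
    intro x hx
    rw [MonoidHom.mem_ker] at hx ⊢
    ext v
    exact d.rhoX_of_mem_A ((hσk x).mp hx) v
  let ρ : Matrix.SpecialLinearGroup (Fin 2) F →* MulAut (V Y A) :=
    σ.liftOfSurjective hσs ⟨rhoX Y A, hker⟩
  have hρ : ∀ x : X, ρ (σ x) = rhoX Y A x := by
    intro x
    exact MonoidHom.liftOfRightInverse_comp_apply σ _ _ ⟨rhoX Y A, hker⟩ x
  have hxe : ∀ t : F, ∃ y ∈ Y, ρ (xe t) = rhoX Y A y := by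
    intro t
    obtain ⟨y, hy, hyt⟩ := hT2 t
    exact ⟨y, hy, by rw [← hyt, hρ]⟩
  have hye : ∀ t : F, ∃ y ∈ Yc Y g0, ρ (ye t) = rhoX Y A y := by
    intro t
    obtain ⟨y, hy, hyt⟩ := hT2' t
    exact ⟨y, hy, by rw [← hyt, hρ]⟩
  have h1 : ∀ v : V Y A, (∀ t, ρ (xe t) v = v) → (∀ t, ρ (ye t) v = v) → v = 1 := by
    intro v hx hy
    apply d.fix_all_eq_one hgen
    apply d.fix_all hgen
    · intro y hyY
      obtain ⟨t, ht⟩ := hT1 y hyY
      rw [← hρ, ht]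
      exact hx t
    · intro y hyY
      obtain ⟨t, ht⟩ := hT1' y hyY
      rw [← hρ, ht]
      exact hy t
  have h2 : ∀ v : V Y A, ∃ v1 v2 : V Y A, v = v1 * v2 ∧ (∀ t, ρ (xe t) v1 = v1) ∧
      (∀ t, ρ (ye t) v2 = v2) := by
    intro v
    obtain ⟨v1, hv1, v2, hv2, hv⟩ := d.exists_decomp hgen v
    refine ⟨v1, v2, hv, ?_, ?_⟩
    · intro t
      obtain ⟨y, hy, hyt⟩ := hxe t
      rw [hyt]
      exact d.rho_fix (g := 1) (by rw [Yc_one]; exact hy) hv1
    · intro t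
      obtain ⟨y, hy, hyt⟩ := hye t
      rw [hyt]
      exact d.rho_fix hy hv2
  have h3 : ∀ (t t' : F) (v : V Y A), ρ (xe t') (ρ (xe t) v * v⁻¹) = ρ (xe t) v * v⁻¹ := by
    intro t t' v
    obtain ⟨y, hy, hyt⟩ := hxe t
    obtain ⟨y', hy', hyt'⟩ := hxe t'
    rw [hyt, hyt']
    exact d.rho_fix (g := 1) (by rw [Yc_one]; exact hy')
      (d.rho_comm_mem (g := 1) (by rw [Yc_one]; exact hy) v)
  have h4 : ∀ (t t' : F) (v : V Y A), ρ (ye t') (ρ (ye t) v * v⁻¹) = ρ (ye t) v * v⁻¹ := by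
    intro t t' v
    obtain ⟨y, hy, hyt⟩ := hye t
    obtain ⟨y', hy', hyt'⟩ := hye t'
    rw [hyt, hyt']
    exact d.rho_fix hy' (d.rho_comm_mem hy v)
  have h5 : (2 : F) ≠ 0 → ∀ v : V Y A, v * v = 1 → v = 1 := by
    intro h2F v hv
    have hp2 : p ≠ 2 := by
      rintro rfl
      apply h2F
      exact_mod_cast CharP.cast_eq_zero F 2
    obtain ⟨m, hm⟩ := (Fact.out : p.Prime).odd_of_ne_two hp2
    have hvp := d.V_exp v
    rw [hm, pow_succ, pow_mul, pow_two, hv, one_pow, one_mul] at hvp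
    exact hvp
  intro h hh
  apply concl_of_fpf
  intro v hv
  by_cases htr : ((σ h : Matrix.SpecialLinearGroup (Fin 2) F) : Matrix (Fin 2) (Fin 2) F) 0 0 +
      ((σ h : Matrix.SpecialLinearGroup (Fin 2) F) : Matrix (Fin 2) (Fin 2) F) 1 1 = 2
  · exfalso
    apply hh
    have hpow : (σ h) ^ p = 1 := Cfsg.Agent.Lib.Helper77.FrakL.sl2TraceTwo.{0} (σ h) htr
    have hA : h ^ p ^ 1 ∈ A := by
      rw [pow_one, ← hσk, map_pow, hpow]
    exact d.isPElt_of_pow_mem hA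
  · exact quad_wrap d.V_comm ρ h1 h2 h3 h4 h5 (σ h) htr v (by rw [hρ]; exact hv)

/-- (G3) The case `X / A ≅ SL₂(F)`. -/
theorem case_sl2 {X : Type u} [Group X] [Finite X] {Y A : Subgroup X} [A.Normal]
    {p : ℕ} [Fact p.Prime] (d : Data p Y A) {F : Type} [Field F] [Fintype F]
    (hcard : Nat.card ↥(Y.map (QuotientGroup.mk' A)) = Fintype.card F)
    (φ : X ⧸ A ≃* Matrix.SpecialLinearGroup (Fin 2) F) : Concl p Y A := by
  classical
  -- the characteristic of `F` is `p`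
  have hpY : IsPGroup p ↥(Y.map (QuotientGroup.mk' A)) := d.isPGroup_Y.map _
  obtain ⟨n, hn⟩ := IsPGroup.iff_card.mp hpY
  have hne : Y.map (QuotientGroup.mk' A) ≠ ⊥ := by
    intro h
    apply d.not_le
    intro y hy
    have h1 : (QuotientGroup.mk' A) y ∈ Y.map (QuotientGroup.mk' A) :=
      Subgroup.mem_map_of_mem _ hy
    rw [h, Subgroup.mem_bot] at h1
    exact (QuotientGroup.eq_one_iff y).mp h1
  have hn0 : n ≠ 0 := by
    rintro rfl
    rw [pow_zero] at hn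
    exact hne (Subgroup.card_eq_one.mp hn)
  have : CharP F p := by
    obtain ⟨q, hq⟩ := CharP.exists F
    have := hq
    obtain ⟨m, hqp, hm⟩ := FiniteField.card F q
    have h1 : p ^ n = q ^ (m : ℕ) := by rw [← hn, hcard, hm]
    have hpq : p ∣ q := by
      have h2 : p ∣ q ^ (m : ℕ) := by rw [← h1]; exact dvd_pow_self p hn0
      exact (Fact.out : p.Prime).dvd_of_dvd_pow h2
    have h3 : p = q := (Nat.prime_dvd_prime_iff_eq Fact.out hqp).mp hpq
    rw [h3]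
    exact hq
  let σ0 : X →* Matrix.SpecialLinearGroup (Fin 2) F :=
    φ.toMonoidHom.comp (QuotientGroup.mk' A)
  have hσ0s : Function.Surjective σ0 := φ.surjective.comp (QuotientGroup.mk'_surjective A)
  have hσ0k : ∀ x, σ0 x = 1 ↔ x ∈ A := by
    intro x
    show φ (QuotientGroup.mk' A x) = 1 ↔ x ∈ A
    rw [MulEquiv.map_eq_one_iff]
    exact QuotientGroup.eq_one_iff x
  have hP1 : IsPGroup p ↥(Y.map σ0) := d.isPGroup_Y.map _
  obtain ⟨k, hk⟩ := Cfsg.Agent.Lib.Helper77.FrakL.sl2PGroupConj.{0} (Y.map σ0) hP1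
  have hcard0 : Nat.card ↥(Y.map σ0) = Nat.card F := by
    have e : Y.map σ0 = (Y.map (QuotientGroup.mk' A)).map φ.toMonoidHom :=
      (Subgroup.map_map _ _ _).symm
    rw [e, Nat.card_eq_fintype_card (α := F), ← hcard]
    exact Nat.card_congr
      ((Y.map (QuotientGroup.mk' A)).equivMapOfInjective φ.toMonoidHom φ.injective).symm.toEquiv
  let σ : X →* Matrix.SpecialLinearGroup (Fin 2) F := (MulAut.conj k).toMonoidHom.comp σ0
  have hσ : ∀ x, σ x = k * σ0 x * k⁻¹ := fun x => rfl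
  have hσs : Function.Surjective σ := (MulAut.conj k).surjective.comp hσ0s
  have hσk : ∀ x, σ x = 1 ↔ x ∈ A := by
    intro x
    rw [hσ, ← hσ0k]
    constructor
    · intro h
      have e : σ0 x = k⁻¹ * (k * σ0 x * k⁻¹) * k := by group
      rw [e, h]
      group
    · intro h
      rw [h]
      group
  have hT1 : ∀ y ∈ Y, ∃ t, σ y = xe t := fun y hy => hk _ (Subgroup.mem_map_of_mem σ0 hy)
  have hT2 : ∀ t, ∃ y ∈ Y, σ y = xe t := by
    let f : ↥(Y.map σ0) → F := fun s => Classical.choose (hk s.1 s.2)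
    have hf : ∀ s : ↥(Y.map σ0), k * s.1 * k⁻¹ = xe (f s) :=
      fun s => Classical.choose_spec (hk s.1 s.2)
    have hinj : Function.Injective f := by
      intro s s' hss
      have h3 : k * s.1 * k⁻¹ = k * s'.1 * k⁻¹ := by rw [hf s, hf s', hss]
      exact Subtype.ext (mul_left_cancel (mul_right_cancel h3))
    have hsurj : Function.Surjective f :=
      ((Nat.bijective_iff_injective_and_card f).mpr ⟨hinj, hcard0⟩).2
    intro t
    obtain ⟨s, hs⟩ := hsurj t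
    obtain ⟨y, hy, hys⟩ := s.2
    exact ⟨y, hy, by rw [hσ, hys, hf s, hs]⟩
  exact case_sl2_of_hom d σ hσs hσk hT1 hT2

end Cfsg.Agent.Lib.Helper68.FrakL
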