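import Mathlib
import Cfsg.Agent.Lib.Helper48.FrakL.DefsN
import Cfsg.Agent.Lib.Helper68.FrakL.CaseSL2

set_option autoImplicit false

/-!
Case (N3) of S2861: the case `X / A ≅ SL₂(F)`.
-/

namespace Cfsg.Agent.Lib.Helper68.FrakL

open Cfsg.Agent.Lib.Helper48.FrakL Subgroup

universe u

section Mat

variable {F : Type} [Field F]

/-- The diagonal element `diag(l, l⁻¹)`. -/
def dg (l : F) (hl : l ≠ 0) : Matrix.SpecialLinearGroup (Fin 2) F :=
  ⟨!![l, 0; 0, l⁻¹], by simp [Matrix.det_fin_two_of, hl]⟩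

theorem dg_00 (l : F) (hl : l ≠ 0) : (dg l hl) 0 0 = l := by simp [dg]
theorem dg_01 (l : F) (hl : l ≠ 0) : (dg l hl) 0 1 = 0 := by simp [dg]
theorem dg_10 (l : F) (hl : l ≠ 0) : (dg l hl) 1 0 = 0 := by simp [dg]
theorem dg_11 (l : F) (hl : l ≠ 0) : (dg l hl) 1 1 = l⁻¹ := by simp [dg]

theorem dg_conj (l : F) (hl : l ≠ 0) (t : F) :
    dg l hl * xe t * (dg l hl)⁻¹ = xe (l ^ 2 * t) := by
  rw [mul_inv_eq_iff_eq_mul]
  apply Cfsg.Agent.Lib.Helper33.FrakL.sl2_ext <;>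
    simp only [Cfsg.Agent.Lib.Helper33.FrakL.mul_00, Cfsg.Agent.Lib.Helper33.FrakL.mul_01,
      Cfsg.Agent.Lib.Helper33.FrakL.mul_10, Cfsg.Agent.Lib.Helper33.FrakL.mul_11,
      Cfsg.Agent.Lib.Helper33.FrakL.xe_00, Cfsg.Agent.Lib.Helper33.FrakL.xe_01,
      Cfsg.Agent.Lib.Helper33.FrakL.xe_10, Cfsg.Agent.Lib.Helper33.FrakL.xe_11,
      dg_00, dg_01, dg_10, dg_11] <;>
    field_simp <;> ring

theorem xe_neg (t : F) : xe (-t) = (xe t)⁻¹ := by
  symm
  apply inv_eq_of_mul_eq_one_right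
  rw [Cfsg.Agent.Lib.Helper33.FrakL.xe_add, add_neg_cancel,
    Cfsg.Agent.Lib.Helper33.FrakL.xe_zero]

end Mat

/-- The surjection `σ : X → SL₂(F)` with kernel `A` mapping `Y` onto the upper unitriangular
group. -/
theorem sl2_setup {X : Type u} [Group X] [Finite X] {Y A : Subgroup X} [A.Normal]
    {p : ℕ} [Fact p.Prime] (d : Data p Y A) {F : Type} [Field F] [Fintype F]
    (hcard : Nat.card ↥(Y.map (QuotientGroup.mk' A)) = Fintype.card F)
    (φ : X ⧸ A ≃* Matrix.SpecialLinearGroup (Fin 2) F) :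
    CharP F p ∧ ∃ σ : X →* Matrix.SpecialLinearGroup (Fin 2) F, Function.Surjective σ ∧
      (∀ x, σ x = 1 ↔ x ∈ A) ∧ (∀ y ∈ Y, ∃ t, σ y = xe t) ∧ (∀ t, ∃ y ∈ Y, σ y = xe t) := by
  classical
  have hpY : IsPGroup p ↥(Y.map (QuotientGroup.mk' A)) := d.isPGroup_Y.map _
  obtain ⟨n, hn⟩ := IsPGroup.iff_card.mp hpY
  have hne : Y.map (QuotientGroup.mk' A) ≠ ⊥ := by
    intro h
    apply d.not_le
    intro y hy
    have h1 : (QuotientGroup.mk' A) y ∈ Y.map (QuotientGroup.mk' A) :=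
      Subgroup.mem_map_of_mem _ hy
    rw [h, Subgroup.mem_bot] at h1
    exact (QuotientGroup.eq_one_iff y).mp h1
  have hn0 : n ≠ 0 := by
    rintro rfl
    rw [pow_zero] at hn
    exact hne (Subgroup.card_eq_one.mp hn)
  have hchar : CharP F p := by
    obtain ⟨q, hq⟩ := CharP.exists F
    have := hq
    obtain ⟨m, hqp, hm⟩ := FiniteField.card F q
    have h1 : p ^ n = q ^ (m : ℕ) := by rw [← hn, hcard, hm]
    have hpq : p ∣ q := by
      have h2 : p ∣ q ^ (m : ℕ) := by rw [← h1]; exact dvd_pow_self p hn0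
      exact (Fact.out : p.Prime).dvd_of_dvd_pow h2
    have h3 : p = q := (Nat.prime_dvd_prime_iff_eq Fact.out hqp).mp hpq
    rw [h3]
    exact hq
  refine ⟨hchar, ?_⟩
  have := hchar
  let σ0 : X →* Matrix.SpecialLinearGroup (Fin 2) F :=
    φ.toMonoidHom.comp (QuotientGroup.mk' A)
  have hσ0s : Function.Surjective σ0 := φ.surjective.comp (QuotientGroup.mk'_surjective A)
  have hσ0k : ∀ x, σ0 x = 1 ↔ x ∈ A := by
    intro x
    show φ (QuotientGroup.mk' A x) = 1 ↔ x ∈ A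
    rw [MulEquiv.map_eq_one_iff]
    exact QuotientGroup.eq_one_iff x
  have hP1 : IsPGroup p ↥(Y.map σ0) := d.isPGroup_Y.map _
  obtain ⟨k, hk⟩ := Cfsg.Agent.Lib.Helper77.FrakL.sl2PGroupConj.{0} (Y.map σ0) hP1
  have hcard0 : Nat.card ↥(Y.map σ0) = Nat.card F := by
    have e : Y.map σ0 = (Y.map (QuotientGroup.mk' A)).map φ.toMonoidHom :=
      (Subgroup.map_map _ _ _).symm
    rw [e, Nat.card_eq_fintype_card (α := F), ← hcard]
    exact Nat.card_congr
      ((Y.map (QuotientGroup.mk' A)).equivMapOfInjective φ.toMonoidHom φ.injective).symm.toEquiv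
  let σ : X →* Matrix.SpecialLinearGroup (Fin 2) F := (MulAut.conj k).toMonoidHom.comp σ0
  have hσ : ∀ x, σ x = k * σ0 x * k⁻¹ := fun x => rfl
  have hσs : Function.Surjective σ := (MulAut.conj k).surjective.comp hσ0s
  have hσk : ∀ x, σ x = 1 ↔ x ∈ A := by
    intro x
    rw [hσ, ← hσ0k]
    constructor
    · intro h
      have e : σ0 x = k⁻¹ * (k * σ0 x * k⁻¹) * k := by group
      rw [e, h]
      group
    · intro h
      rw [h]
      group
  have hT1 : ∀ y ∈ Y, ∃ t, σ y = xe t := fun y hy => hk _ (Subgroup.mem_map_of_mem σ0 hy)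
  have hT2 : ∀ t, ∃ y ∈ Y, σ y = xe t := by
    let f : ↥(Y.map σ0) → F := fun s => Classical.choose (hk s.1 s.2)
    have hf : ∀ s : ↥(Y.map σ0), k * s.1 * k⁻¹ = xe (f s) :=
      fun s => Classical.choose_spec (hk s.1 s.2)
    have hinj : Function.Injective f := by
      intro s s' hss
      have h3 : k * s.1 * k⁻¹ = k * s'.1 * k⁻¹ := by rw [hf s, hf s', hss]
      exact Subtype.ext (mul_left_cancel (mul_right_cancel h3))
    have hsurj : Function.Surjective f :=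
      ((Nat.bijective_iff_injective_and_card f).mpr ⟨hinj, hcard0⟩).2
    intro t
    obtain ⟨s, hs⟩ := hsurj t
    obtain ⟨y, hy, hys⟩ := s.2
    exact ⟨y, hy, by rw [hσ, hys, hf s, hs]⟩
  exact ⟨σ, hσs, hσk, hT1, hT2⟩

/-- The case `X / A ≅ SL₂(F)` of S2861, given a surjection `σ : X → SL₂(F)` with kernel `A`
mapping `Y` onto the upper unitriangular group. -/
theorem caseN_sl2_of_hom {X : Type u} [Group X] [Finite X] {Y A : Subgroup X} [hAn : A.Normal]
    {p : ℕ} [Fact p.Prime] (d : Data p Y A) {F : Type} [Field F] [Finite F] [CharP F p]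
    (σ : X →* Matrix.SpecialLinearGroup (Fin 2) F) (hσs : Function.Surjective σ)
    (hσk : ∀ x, σ x = 1 ↔ x ∈ A)
    (hT1 : ∀ y ∈ Y, ∃ t, σ y = xe t) (hT2 : ∀ t, ∃ y ∈ Y, σ y = xe t) : ConclN p Y A := by
  classical
  intro W hAW hWN hinv hexp _ hne
  have hlift : ∀ x : X, ∀ y ∈ Y, σ x = σ y → x ∈ Y ⊔ A := by
    intro x y hy h
    have hA : y⁻¹ * x ∈ A := by rw [← hσk, map_mul, map_inv, h, inv_mul_cancel]
    have e : x = y * (y⁻¹ * x) := by group
    rw [e]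
    exact Subgroup.mul_mem_sup hy hA
  -- `W` is a `p`-group
  have hpW : IsPGroup p ↥W := by
    intro w
    obtain ⟨j, hj⟩ := d.pgroup ⟨(w : X) ^ p, hexp w w.2⟩
    refine ⟨j + 1, ?_⟩
    apply Subtype.ext
    have h1 := congrArg Subtype.val hj
    rw [Subgroup.coe_pow] at h1 ⊢
    rw [pow_succ', pow_mul]
    exact h1
  have hp2 : IsPGroup p ↥(W ⊔ Y) := IsPGroup.to_sup_of_normal_right' hpW d.isPGroup_Y hWN
  have hpP2 : IsPGroup p ↥((W ⊔ Y).map σ) := hp2.map σ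
  obtain ⟨k2, hk2⟩ := Cfsg.Agent.Lib.Helper77.FrakL.sl2PGroupConj.{0} ((W ⊔ Y).map σ) hpP2
  have hc1 : Nat.card ↥((W ⊔ Y).map σ) ≤ Nat.card F := by
    refine Nat.card_le_card_of_injective (fun s => Classical.choose (hk2 s.1 s.2)) ?_
    intro s s' hss
    have h1 := Classical.choose_spec (hk2 s.1 s.2)
    have h2 := Classical.choose_spec (hk2 s'.1 s'.2)
    simp only at hss
    rw [hss] at h1
    have h3 : k2 * s.1 * k2⁻¹ = k2 * s'.1 * k2⁻¹ := h1.trans h2.symm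
    exact Subtype.ext (mul_left_cancel (mul_right_cancel h3))
  have hc2 : Nat.card F ≤ Nat.card ↥(Y.map σ) := by
    have hmem : ∀ t : F, xe t ∈ Y.map σ := by
      intro t
      obtain ⟨y, hy, hyt⟩ := hT2 t
      exact ⟨y, hy, hyt⟩
    refine Nat.card_le_card_of_injective (fun t => (⟨xe t, hmem t⟩ : ↥(Y.map σ))) ?_
    intro t t' htt
    exact xe_inj (congrArg Subtype.val htt)
  have hle2 : Y.map σ ≤ (W ⊔ Y).map σ := Subgroup.map_mono le_sup_right
  have heq : Y.map σ = (W ⊔ Y).map σ := Subgroup.eq_of_le_of_card_ge hle2 (hc1.trans hc2)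
  have hWY : ∀ w ∈ W, ∃ y ∈ Y, σ y = σ w := by
    intro w hw
    have hmem : σ w ∈ Y.map σ := by
      rw [heq]
      exact Subgroup.mem_map_of_mem σ (le_sup_left (α := Subgroup X) hw)
    exact hmem
  have hWle : W ≤ Y ⊔ A := by
    intro w hw
    obtain ⟨y', hy', hyy⟩ := hWY w hw
    exact hlift w y' hy' hyy.symm
  -- the additive subgroup `T`
  obtain ⟨w0, hw0, hw0A⟩ : ∃ w ∈ W, w ∉ A := by
    by_contra hcon
    apply hne
    intro w hw
    by_contra hwA
    exact hcon ⟨w, hw, hwA⟩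
  obtain ⟨y0, hy0, hyw⟩ := hWY w0 hw0
  obtain ⟨t0, ht0⟩ := hT1 y0 hy0
  have ht0ne : t0 ≠ 0 := by
    rintro rfl
    apply hw0A
    rw [← hσk, ← hyw, ht0, Cfsg.Agent.Lib.Helper33.FrakL.xe_zero]
  have ht0W : xe t0 ∈ W.map σ := ⟨w0, hw0, by rw [← hyw, ht0]⟩
  have hsq : ∀ (l t : F), xe t ∈ W.map σ → xe (l ^ 2 * t) ∈ W.map σ := by
    intro l t ht
    by_cases hl : l = 0
    · subst hl
      have e : (0 : F) ^ 2 * t = 0 := by ring
      rw [e, Cfsg.Agent.Lib.Helper33.FrakL.xe_zero]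
      exact one_mem _
    · obtain ⟨b, hb⟩ := hσs (dg l hl)
      have hbN : b ∈ normalizer (Y : Set X) := by
        apply d.mem_B_of_conj_mem
        intro y hy
        obtain ⟨t1, ht1⟩ := hT1 y hy
        obtain ⟨y', hy', hyt'⟩ := hT2 (l ^ 2 * t1)
        apply hlift _ y' hy'
        rw [map_mul, map_mul, map_inv, hb, ht1, dg_conj, hyt']
      obtain ⟨w, hw, hwt⟩ := ht
      refine ⟨b * w * b⁻¹, hinv b hbN w hw, ?_⟩
      rw [map_mul, map_mul, map_inv, hb, hwt, dg_conj]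
  have hadd : ∀ t t' : F, xe t ∈ W.map σ → xe t' ∈ W.map σ → xe (t + t') ∈ W.map σ := by
    intro t t' h h'
    rw [← Cfsg.Agent.Lib.Helper33.FrakL.xe_add]
    exact mul_mem h h'
  have hneg : ∀ t : F, xe t ∈ W.map σ → xe (-t) ∈ W.map σ := by
    intro t h
    rw [xe_neg]
    exact inv_mem h
  have hall : ∀ s : F, xe (s * t0) ∈ W.map σ := by
    intro s
    by_cases h2 : (2 : F) = 0
    · have hp2 : p = 2 := by
        have h3 : p ∣ 2 := (CharP.cast_eq_zero_iff F p 2).mp (by exact_mod_cast h2)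
        exact (Nat.prime_dvd_prime_iff_eq Fact.out Nat.prime_two).mp h3
      have hrc : ringChar F = 2 := by rw [← hp2]; exact ringChar.eq F p
      obtain ⟨l, hl⟩ := FiniteField.isSquare_of_char_two hrc s
      rw [hl, ← pow_two]
      exact hsq l t0 ht0W
    · have e : s * t0 = ((s + 1) / 2) ^ 2 * t0 + -(((s - 1) / 2) ^ 2 * t0) := by
        field_simp
        ring
      rw [e]
      exact hadd _ _ (hsq _ _ ht0W) (hneg _ (hsq _ _ ht0W))
  have hYW : Y ≤ W := by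
    intro y hy
    obtain ⟨t, ht⟩ := hT1 y hy
    have h1 : xe t ∈ W.map σ := by
      have e : t = (t / t0) * t0 := by field_simp
      rw [e]
      exact hall _
    obtain ⟨w, hw, hwt⟩ := h1
    have hA : w⁻¹ * y ∈ A := by rw [← hσk, map_mul, map_inv, hwt, ht, inv_mul_cancel]
    have e : y = w * (w⁻¹ * y) := by group
    rw [e]
    exact mul_mem hw (hAW hA)
  exact le_antisymm hWle (sup_le hYW hAW)

/-- (N3) The case `X / A ≅ SL₂(F)` of S2861. -/
theorem caseN_sl2 {X : Type u} [Group X] [Finite X] {Y A : Subgroup X} [A.Normal]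
    {p : ℕ} [Fact p.Prime] (d : Data p Y A) {F : Type} [Field F] [Fintype F]
    (hcard : Nat.card ↥(Y.map (QuotientGroup.mk' A)) = Fintype.card F)
    (φ : X ⧸ A ≃* Matrix.SpecialLinearGroup (Fin 2) F) : ConclN p Y A := by
  obtain ⟨hchar, σ, hσs, hσk, hT1, hT2⟩ := sl2_setup d hcard φ
  have := hchar
  exact caseN_sl2_of_hom d σ hσs hσk hT1 hT2

end Cfsg.Agent.Lib.Helper68.FrakL
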