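import Mathlib
import Cfsg.Agent.Lib.Helper48.FrakL.Defs

set_option autoImplicit false

/-!
Package C2 of S2863: an element of trace `2` of `SL₂(F)`, `F` of characteristic `p`, satisfies
`g ^ p = 1`.
-/

namespace Cfsg.Agent.Lib.Helper68.FrakL

open Matrix

/-- Cayley-Hamilton for a `2 × 2` matrix of determinant `1` and trace `2`: `(g - 1)^2 = 0`. -/
theorem sub_one_sq_eq_zero {F : Type*} [Field F] (M : Matrix (Fin 2) (Fin 2) F)
    (hdet : M.det = 1) (htr : M 0 0 + M 1 1 = 2) : (M - 1) * (M - 1) = 0 := by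
  rw [Matrix.det_fin_two] at hdet
  ext i j
  fin_cases i <;> fin_cases j <;>
    simp [Matrix.mul_apply, Fin.sum_univ_two, Matrix.one_apply]
  · linear_combination (-1 : F) * hdet + (M 0 0) * htr
  · linear_combination (M 0 1) * htr
  · linear_combination (M 1 0) * htr
  · linear_combination (-1 : F) * hdet + (M 1 1) * htr

theorem sl2TraceTwo.{u} : Cfsg.Agent.Lib.Helper48.FrakL.SL2TraceTwo.{u} := by
  intro F _ p _ _ g htr
  have hp : (2 : ℕ) ≤ p := (Fact.out : p.Prime).two_le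
  have hsq : ((g : Matrix (Fin 2) (Fin 2) F) - 1) * ((g : Matrix (Fin 2) (Fin 2) F) - 1) = 0 :=
    sub_one_sq_eq_zero _ g.2 htr
  have hpow : ((g : Matrix (Fin 2) (Fin 2) F) - 1) ^ p = 0 := by
    obtain ⟨k, rfl⟩ : ∃ k, p = 2 + k := ⟨p - 2, by omega⟩
    rw [pow_add, pow_two, hsq, zero_mul]
  have hcomm : Commute (g : Matrix (Fin 2) (Fin 2) F) 1 := Commute.one_right _
  have h2 : ((g : Matrix (Fin 2) (Fin 2) F) - 1) ^ p
      = (g : Matrix (Fin 2) (Fin 2) F) ^ p - 1 ^ p := sub_pow_char_of_commute _ hcomm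
  rw [hpow, one_pow] at h2
  have h3 : (g : Matrix (Fin 2) (Fin 2) F) ^ p = 1 := (sub_eq_zero.mp h2.symm)
  apply Subtype.ext
  rw [Matrix.SpecialLinearGroup.coe_pow, h3]
  rfl

end Cfsg.Agent.Lib.Helper68.FrakL
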